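import Mathlib

/-!
# A table for the general linear group of rank three over the field with two elements
-/

set_option autoImplicit false
set_option linter.unusedSectionVars false
set_option linter.unusedSimpArgs false
set_option linter.unusedVariables false

namespace Cfsg.Agent.Lib.OreMinus

open Matrix

/-- The first cubic relation. -/
def Cub1 {R : Type*} [Ring R] (Y : R) : Prop := Y * Y * Y + Y + 1 = 0

/-- The second cubic relation. -/
def Cub2 {R : Type*} [Ring R] (Y : R) : Prop := Y * Y * Y + Y * Y + 1 = 0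

/-- Matrices over the two-element field. -/
abbrev M3 := Matrix (Fin 3) (Fin 3) (ZMod 2)

/-- Decoding. -/
def decM (n : ℕ) : M3 := fun i j => if n.testBit (3 * i.val + j.val) then 1 else 0

/-- Encoding. -/
def encM (T : M3) : ℕ :=
  (T 0 0).val + 2 * (T 0 1).val + 4 * (T 0 2).val + 8 * (T 1 0).val + 16 * (T 1 1).val + 32 * (T 1 2).val +
    64 * (T 2 0).val + 128 * (T 2 1).val + 256 * (T 2 2).val

/-- The table. -/
def tab3 : List (ℕ × ℕ × ℕ × Bool) := [(0,0,0,false),(0,0,0,false),(0,0,0,false),(0,0,0,false),(0,0,0,false),(0,0,0,false),(0,0,0,false),(0,0,0,false),(0,0,0,false),(0,0,0,false),(0,0,0,false),(0,0,0,false),(0,0,0,false),(0,0,0,false),(0,0,0,false),(0,0,0,false),(0,0,0,false),(0,0,0,false),(0,0,0,false),(0,0,0,false),(0,0,0,false),(0,0,0,false),(0,0,0,false),(0,0,0,false),(0,0,0,false),(0,0,0,false),(0,0,0,false),(0,0,0,false),(0,0,0,false),(0,0,0,false),(0,0,0,false),(0,0,0,false),(0,0,0,false),(0,0,0,false),(0,0,0,false),(0,0,0,false),(0,0,0,false),(0,0,0,false),(0,0,0,false),(0,0,0,false),(0,0,0,fa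lse),(0,0,0,false),(0,0,0,false),(0,0,0,false),(0,0,0,false),(0,0,0,false),(0,0,0,false),(0,0,0,false),(0,0,0,false),(0,0,0,false),(0,0,0,false),(0,0,0,false),(0,0,0,false),(0,0,0,false),(0,0,0,false),(0,0,0,false),(0,0,0,false),(0,0,0,false),(0,0,0,false),(0,0,0,false),(0,0,0,false),(0,0,0,false),(0,0,0,false),(0,0,0,false),(0,0,0,false),(0,0,0,false),(0,0,0,false),(0,0,0,false),(0,0,0,false),(0,0,0,false),(0,0,0,false),(0,0,0,false),(0,0,0,false),(0,0,0,false),(0,0,0,false),(0,0,0,false),(0,0,0,false),(0,0,0,false),(0,0,0,false),(0,0,0,false),(0,0,0,false),(0,0,0,false),(0,0,0,false),(0,0,0,false),(190,99,172,true),(95,107,428,false),(106,84,84,false),(142,125,348,false),(0,0,0,false),(0,0,0,false),(0,0,0,false),(0,0,0,false),(142,123,236,false),(106,86,212,false),(335,98,140,false),(95,98,140,false),(0,0,0,false),(0,0,0,false),(247,84,84,false),(370,87,468,false),(0,0,0,false),(0,0,0,false),(102,123,236,false),(106,85,340,false),(0,0,0,false),(0,0,0,false),(106,87,468,false),(95,84,84,false),(0,0,0,false),(0,0,0,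false),(247,93,372,false),(382,123,236,false),(0,0,0,false),(0,0,0,false),(355,110,444,false),(115,110,444,false),(226,87,468,false),(102,122,460,false),(0,0,0,false),(0,0,0,false),(0,0,0,false),(0,0,0,false),(95,93,372,false),(142,124,124,false),(141,117,380,true),(115,103,188,false),(0,0,0,false),(0,0,0,false),(0,0,0,false),(0,0,0,false),(0,0,0,false),(0,0,0,false),(0,0,0,false),(0,0,0,false),(0,0,0,false),(0,0,0,false),(0,0,0,false),(0,0,0,false),(0,0,0,false),(0,0,0,false),(253,86,212,false),(412,123,236,false),(142,110,444,false),(95,106,396,false),(0,0,0,false),(0,0,0,false),(0,0,0,false),(0,0,0,false),(0,0,0,false),(0,0,0,false),(0,0,0,false),(0,0,0,false),(0,0,0,false),(0,0,0,false),(0,0,0,false),(0,0,0,false),(397,85,340,false),(157,87,468,false),(95,99,172,false),(106,115,492,false),(0,0,0,false),(111,115,492,true),(0,0,0,false),(95,92,116,false),(0,0,0,false),(204,116,92,false),(0,0,0,false),(94,86,212,true),(0,0,0,false),(95,85,340,false),(0,0,0,false),(442,117,380,false),(172,117,380,false),(0,0,0,false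),(253,95,244,false),(0,0,0,false),(0,0,0,false),(187,116,92,false),(0,0,0,false),(142,102,156,false),(0,0,0,false),(106,99,172,false),(0,0,0,false),(157,94,500,false),(0,0,0,false),(106,123,236,false),(0,0,0,false),(187,125,348,false),(142,94,500,false),(0,0,0,false),(431,110,444,false),(0,0,0,false),(0,0,0,false),(0,0,0,false),(0,0,0,false),(0,0,0,false),(0,0,0,false),(0,0,0,false),(0,0,0,false),(0,0,0,false),(0,0,0,false),(0,0,0,false),(0,0,0,false),(0,0,0,false),(204,85,340,false),(142,106,396,false),(253,111,412,false),(478,87,468,false),(0,0,0,false),(0,0,0,false),(0,0,0,false),(0,0,0,false),(172,84,84,false),(106,117,380,false),(99,110,444,true),(157,102,156,false),(0,0,0,false),(0,0,0,false),(0,0,0,false),(0,0,0,false),(0,0,0,false),(0,0,0,false),(0,0,0,false),(0,0,0,false),(0,0,0,false),(102,117,380,false),(226,93,372,false),(0,0,0,false),(0,0,0,false),(500,98,140,false),(115,106,396,false),(0,0,0,false),(0,0,0,false),(94,85,340,true),(247,95,244,false),(0,0,0,false),(157,103,188,false),(0,0,0,false),(0,0,0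,false),(102,114,204,false),(0,0,0,false),(142,92,116,false),(102,116,92,false),(0,0,0,false),(485,117,380,false),(0,0,0,false),(0,0,0,false),(247,87,468,false),(0,0,0,false),(115,98,140,false),(491,85,340,false),(0,0,0,false),(0,0,0,false),(253,110,444,false),(102,115,492,false),(0,0,0,false),(0,0,0,false),(0,0,0,false),(0,0,0,false),(0,0,0,false),(0,0,0,false),(0,0,0,false),(0,0,0,false),(0,0,0,false),(0,0,0,false),(0,0,0,false),(94,92,116,true),(335,110,444,false),(0,0,0,false),(0,0,0,false),(115,123,236,false),(102,94,500,false),(0,0,0,false),(0,0,0,false),(0,0,0,false),(111,114,204,true),(0,0,0,false),(94,84,84,true),(0,0,0,false),(99,106,396,true),(0,0,0,false),(190,107,428,true),(382,87,468,false),(0,0,0,false),(0,0,0,false),(95,103,188,false),(142,116,92,false),(0,0,0,false),(0,0,0,false),(0,0,0,false),(0,0,0,false),(0,0,0,false),(0,0,0,false),(0,0,0,false),(0,0,0,false),(0,0,0,false),(0,0,0,false),(0,0,0,false),(95,87,468,false),(106,114,204,false),(0,0,0,false),(0,0,0,false),(114,86,212,true),(187,92,116,f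alse),(0,0,0,false),(141,102,156,true),(0,0,0,false),(102,110,444,false),(0,0,0,false),(99,98,140,true),(0,0,0,false),(106,98,140,false),(0,0,0,false),(94,116,92,true),(115,99,172,false),(0,0,0,false),(0,0,0,false),(102,86,212,false),(95,111,412,false),(0,0,0,false),(0,0,0,false),(0,0,0,false),(0,0,0,false),(0,0,0,false),(0,0,0,false),(0,0,0,false),(0,0,0,false),(0,0,0,false),(0,0,0,false),(0,0,0,false),(102,92,116,false),(115,94,500,false),(0,0,0,false),(0,0,0,false),(95,117,380,false),(335,125,348,false),(0,0,0,false),(94,122,460,true),(0,0,0,false),(95,116,92,false),(382,84,84,false),(0,0,0,false),(102,99,172,false),(0,0,0,false),(0,0,0,false),(99,87,468,true),(106,111,412,false),(0,0,0,false),(204,115,492,false),(0,0,0,false),(0,0,0,false),(115,92,116,false),(0,0,0,false),(0,0,0,false),(115,93,372,false),(355,85,340,false),(0,0,0,false),(0,0,0,false),(106,116,92,false),(95,114,204,false),(0,0,0,false),(0,0,0,false),(0,0,0,false),(0,0,0,false),(0,0,0,false),(0,0,0,false),(0,0,0,false),(0,0,0,false),(0,0,0,false),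(106,102,156,false),(370,117,380,false),(0,0,0,false),(172,106,396,false),(0,0,0,false),(0,0,0,false),(102,85,340,false),(0,0,0,false),(95,115,492,false),(0,0,0,false),(106,125,348,false),(335,124,124,false),(0,0,0,false),(382,93,372,false),(0,0,0,false),(0,0,0,false),(0,0,0,false),(0,0,0,false),(0,0,0,false),(0,0,0,false),(0,0,0,false),(0,0,0,false),(0,0,0,false),(0,0,0,false),(0,0,0,false),(95,123,236,false),(102,95,244,false),(157,125,348,false),(397,123,236,false),(0,0,0,false),(0,0,0,false),(0,0,0,false),(99,107,428,true),(0,0,0,false),(94,99,172,true),(0,0,0,false),(142,98,140,false),(0,0,0,false),(95,122,460,false),(0,0,0,false),(115,125,348,false),(157,85,340,false),(0,0,0,false),(412,93,372,false),(0,0,0,false),(0,0,0,false),(142,93,372,false),(0,0,0,false),(431,92,116,false),(0,0,0,false),(204,103,188,false),(0,0,0,false),(95,125,348,false),(0,0,0,false),(355,123,236,false),(0,0,0,false),(102,87,468,false),(187,98,140,false),(0,0,0,false),(142,84,84,false),(0,0,0,false),(0,0,0,false),(431,85,340,false),(0,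0,0,false),(0,0,0,false),(0,0,0,false),(0,0,0,false),(0,0,0,false),(0,0,0,false),(0,0,0,false),(0,0,0,false),(0,0,0,false),(0,0,0,false),(442,98,140,false),(95,124,124,false),(187,122,460,false),(172,87,468,false),(0,0,0,false),(0,0,0,false),(0,0,0,false),(0,0,0,false),(0,0,0,false),(0,0,0,false),(0,0,0,false),(0,0,0,false),(0,0,0,false),(0,0,0,false),(0,0,0,false),(0,0,0,false),(99,93,372,true),(187,85,340,false),(142,111,412,false),(95,94,500,false),(0,0,0,false),(0,0,0,false),(0,0,0,false),(114,95,244,true),(0,0,0,false),(102,98,140,false),(187,84,84,false),(0,0,0,false),(335,106,396,false),(0,0,0,false),(0,0,0,false),(106,93,372,false),(95,102,156,false),(0,0,0,false),(0,0,0,false),(204,110,444,false),(478,117,380,false),(0,0,0,false),(0,0,0,false),(95,110,444,false),(102,84,84,false),(0,0,0,false),(0,0,0,false),(485,98,140,false),(247,125,348,false),(0,0,0,false),(0,0,0,false),(397,110,444,false),(0,0,0,false),(491,123,236,false),(253,93,372,false),(0,0,0,false),(95,86,212,false),(0,0,0,false),(0,0,0,false),(0,0,0,false),(172,86,212,false),(226,123,236,false),(500,125,348,false),(247,123,236,false),(0,0,0,false),(0,0,0,false),(0,0,0,false),(0,0,0,false),(0,0,0,false),(0,0,0,false),(0,0,0,false),(0,0,0,false),(0,0,0,false),(0,0,0,false)]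

instance (Y : M3) : Decidable (Cub1 Y) := by unfold Cub1; infer_instance
instance (Y : M3) : Decidable (Cub2 Y) := by unfold Cub2; infer_instance

/-- The determinant, spelled out. -/
def detE (T : M3) : ZMod 2 :=
  T 0 0 * T 1 1 * T 2 2 - T 0 0 * T 1 2 * T 2 1 - T 0 1 * T 1 0 * T 2 2 + T 0 1 * T 1 2 * T 2 0 +
    T 0 2 * T 1 0 * T 2 1 - T 0 2 * T 1 1 * T 2 0

/-- The check of an entry. -/
def goodE (T D X Xi : M3) (fl : Bool) : Bool :=
  decide (Cub1 (T * D)) && decide (X * Xi = 1) &&
    (if fl then decide (Cub2 D) && decide (T * D * X * Dᵀ = X) else decide (Cub1 D) && decide (X * D = T * D * X))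

/-- The check. -/
def chk3 (T : M3) : Bool :=
  decide (detE T ≠ 1) || decide (T = 1) ||
    (let e := tab3.getD (encM T) (0, 0, 0, false)
     goodE T (decM e.1) (decM e.2.1) (decM e.2.2.1) e.2.2.2)

set_option maxRecDepth 100000 in
theorem chk3_all : ∀ a b c d e f g h i : ZMod 2, chk3 !![a, b, c; d, e, f; g, h, i] = true := by
  decide +kernel

theorem table3 (T : M3) (hdet : T.det = 1) (hne : T ≠ 1) :
    ∃ D X Xi : M3, Cub1 (T * D) ∧ X * Xi = 1 ∧ ((Cub1 D ∧ X * D = T * D * X) ∨ (Cub2 D ∧ T * D * X * Dᵀ = X)) := by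
  have h := chk3_all (T 0 0) (T 0 1) (T 0 2) (T 1 0) (T 1 1) (T 1 2) (T 2 0) (T 2 1) (T 2 2)
  rw [← Matrix.eta_fin_three T] at h
  have hd : detE T = 1 := by
    rw [← hdet, Matrix.det_fin_three]
    simp only [detE]
  unfold chk3 at h
  simp only [hd, ne_eq, not_true_eq_false, decide_false, hne, not_false_eq_true, Bool.false_or] at h
  set e := tab3.getD (encM T) (0, 0, 0, false)
  refine ⟨decM e.1, decM e.2.1, decM e.2.2.1, ?_⟩
  unfold goodE at h
  simp only [Bool.and_eq_true, decide_eq_true_eq] at h
  obtain ⟨⟨h1, h2⟩, h3⟩ := h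
  refine ⟨h1, h2, ?_⟩
  cases hf : e.2.2.2
  · rw [hf] at h3
    simp only [Bool.false_eq_true, if_false, Bool.and_eq_true, decide_eq_true_eq] at h3
    exact Or.inl h3
  · rw [hf] at h3
    simp only [if_true, Bool.and_eq_true, decide_eq_true_eq] at h3
    exact Or.inr h3

end Cfsg.Agent.Lib.OreMinus
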